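import Mathlib

/-! A finitely presented module mapping to a module `M`, isomorphically away from finitely many
elements at which `M` is finitely presented. -/

set_option autoImplicit false
set_option linter.style.haveILetI false
universe u

namespace Groth.Agent.H17.FPExt

theorem exists_local_model {R : Type u} [CommRing R] {M : Type u} [AddCommGroup M] [Module R M]
    {T : Type} [Finite T] (f : T → R) (Rf : T → Type u) [∀ t, CommRing (Rf t)]
    [∀ t, Algebra R (Rf t)] [∀ t, IsLocalization.Away (f t) (Rf t)]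
    (Mf : T → Type u) [∀ t, AddCommGroup (Mf t)] [∀ t, Module R (Mf t)] [∀ t, Module (Rf t) (Mf t)]
    [∀ t, IsScalarTower R (Rf t) (Mf t)] (ι : ∀ t, M →ₗ[R] Mf t)
    [∀ t, IsLocalizedModule (Submonoid.powers (f t)) (ι t)]
    [∀ t, Module.FinitePresentation (Rf t) (Mf t)] :
    ∃ (N : Type u) (_ : AddCommGroup N) (_ : Module R N) (_ : Module.FinitePresentation R N)
      (g : N →ₗ[R] M), ∀ t, (∀ n, g n = 0 → ∃ k : ℕ, f t ^ k • n = 0) ∧
        ∀ m, ∃ (k : ℕ) (n : N), g n = f t ^ k • m := by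
  classical
  have hgen : ∀ t, ∃ S : Finset M, Submodule.span (Rf t) (ι t '' (S : Set M)) = ⊤ := by
    intro t
    obtain ⟨G, hG⟩ := (inferInstance : Module.Finite (Rf t) (Mf t)).fg_top
    have h : ∀ y : Mf t, ∃ x : M × Submonoid.powers (f t), x.2 • y = ι t x.1 :=
      fun y => IsLocalizedModule.surj _ (ι t) y
    choose x hx using h
    refine ⟨G.image fun y => (x y).1, top_le_iff.1 ?_⟩
    rw [← hG, Submodule.span_le]
    intro y hy
    have hu := IsLocalization.map_units (Rf t) (x y).2
    rw [SetLike.mem_coe, ← Submodule.smul_mem_iff_of_isUnit _ hu, algebraMap_smul]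
    refine Submodule.subset_span ⟨(x y).1, ?_, (hx y).symm⟩
    simp only [Finset.coe_image, Set.mem_image]
    exact ⟨y, hy, rfl⟩
  choose S hS using hgen
  cases nonempty_fintype T
  let S₀ : Finset M := Finset.univ.biUnion S
  let p : (S₀ → R) →ₗ[R] M := Fintype.linearCombination R (fun s : S₀ => s.1)
  let C : ∀ t, (S₀ → R) →ₗ[R] (S₀ → Rf t) := fun t => (Algebra.linearMap R (Rf t)).compLeft S₀
  let P : ∀ t, (S₀ → Rf t) →ₗ[Rf t] Mf t := fun t => Fintype.linearCombination (Rf t) (fun s : S₀ => ι t s.1)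
  have hPC : ∀ t (x : S₀ → R), P t (C t x) = ι t (p x) := fun t x => by
    simp [P, C, p, Fintype.linearCombination_apply, map_sum]
  have hPs : ∀ t, Function.Surjective (P t) := fun t => by
    rw [← LinearMap.range_eq_top, ← top_le_iff, ← hS t, Submodule.span_le]
    rintro _ ⟨s, hs, rfl⟩
    refine ⟨Pi.single ⟨s, Finset.mem_biUnion.2 ⟨t, Finset.mem_univ _, hs⟩⟩ 1, ?_⟩
    simp [P, Fintype.linearCombination_apply_single]
  haveI : ∀ t, IsLocalizedModule (Submonoid.powers (f t)) (C t) := fun t => by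
    rw [show C t = LinearMap.pi (fun s : S₀ => (Algebra.linearMap R (Rf t)).comp (LinearMap.proj s)) from rfl]
    haveI : IsLocalizedModule (Submonoid.powers (f t)) (Algebra.linearMap R (Rf t)) :=
      (isLocalizedModule_iff_isLocalization' _ _).2 (inferInstanceAs (IsLocalization.Away (f t) (Rf t)))
    exact IsLocalizedModule.pi _ (fun _ => Algebra.linearMap R (Rf t))
  -- finitely many relations, defined over `R`
  have hrel : ∀ t, ∃ Y : Finset (LinearMap.ker p),
      Submodule.span (Rf t) ((fun y : LinearMap.ker p => C t y.1) '' (Y : Set (LinearMap.ker p))) =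
        LinearMap.ker (P t) := by
    intro t
    obtain ⟨L, hL⟩ := Module.FinitePresentation.fg_ker (P t) (hPs t)
    have h : ∀ l : L, ∃ (y : LinearMap.ker p) (u : Rf t), IsUnit u ∧ C t y.1 = u • l.1 := by
      intro l
      obtain ⟨⟨x, s⟩, hxs⟩ := IsLocalizedModule.surj (Submonoid.powers (f t)) (C t) l.1
      change s • l.1 = C t x at hxs
      have h0 : ι t (p x) = 0 := by
        have hl : l.1 ∈ LinearMap.ker (P t) := hL ▸ Submodule.subset_span l.2
        rw [← hPC, ← hxs, Submonoid.smul_def, ← algebraMap_smul (Rf t), map_smul,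
          LinearMap.mem_ker.1 hl, smul_zero]
      obtain ⟨s', hs'⟩ := (IsLocalizedModule.eq_zero_iff (Submonoid.powers (f t)) (ι t)).1 h0
      refine ⟨⟨(s' : R) • x, ?_⟩, algebraMap R (Rf t) (s' * s : Submonoid.powers (f t)).1,
        IsLocalization.map_units _ (s' * s), ?_⟩
      · rw [LinearMap.mem_ker, map_smul]; exact hs'
      · rw [map_smul, algebraMap_smul, Submonoid.coe_mul, mul_smul, ← hxs]; rfl
    choose y u hu hy using h
    refine ⟨Finset.univ.image y, le_antisymm ?_ ?_⟩
    · rw [Submodule.span_le]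
      rintro _ ⟨z, -, rfl⟩
      rw [SetLike.mem_coe, LinearMap.mem_ker, hPC, LinearMap.mem_ker.1 z.2, map_zero]
    · rw [← hL, Submodule.span_le]
      intro l hl
      rw [SetLike.mem_coe, ← Submodule.smul_mem_iff_of_isUnit _ (hu ⟨l, hl⟩)]
      refine Submodule.subset_span ⟨y ⟨l, hl⟩, ?_, hy ⟨l, hl⟩⟩
      simp
  choose Y hY using hrel
  let K : Submodule R (S₀ → R) :=
    Submodule.span R ↑((Finset.univ.biUnion Y).image Subtype.val)
  have hK : K ≤ LinearMap.ker p := by
    refine Submodule.span_le.2 fun x hx => ?_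
    obtain ⟨z, -, rfl⟩ := Finset.mem_image.1 hx
    exact z.2
  haveI : Module.FinitePresentation R ((S₀ → R) ⧸ K) :=
    Module.finitePresentation_of_surjective K.mkQ K.mkQ_surjective
      (by rw [K.ker_mkQ]; exact Submodule.fg_span (Finset.finite_toSet _))
  refine ⟨(S₀ → R) ⧸ K, inferInstance, inferInstance, inferInstance, K.liftQ p hK,
    fun t => ⟨fun n hn => ?_, fun m => ?_⟩⟩
  · obtain ⟨x, rfl⟩ := K.mkQ_surjective n
    rw [Submodule.mkQ_apply, Submodule.liftQ_apply] at hn
    have hx : C t x ∈ Submodule.span (Rf t) (C t '' (K : Set (S₀ → R))) := by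
      have h1 : C t x ∈ LinearMap.ker (P t) := by rw [LinearMap.mem_ker, hPC, hn, map_zero]
      rw [← hY t] at h1
      refine Submodule.span_mono ?_ h1
      rintro _ ⟨z, hz, rfl⟩
      exact ⟨z.1, Submodule.subset_span (Finset.mem_image_of_mem _
        (Finset.mem_biUnion.2 ⟨t, Finset.mem_univ _, hz⟩)), rfl⟩
    obtain ⟨x', hx'K, s, hs⟩ : ∃ x' ∈ K, ∃ s : Submonoid.powers (f t), s • C t x = C t x' := by
      generalize C t x = z at hx
      induction hx using Submodule.span_induction with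
      | mem z hz => obtain ⟨w, hw, rfl⟩ := hz; exact ⟨w, hw, 1, by simp⟩
      | zero => exact ⟨0, K.zero_mem, 1, by simp⟩
      | add a b _ _ ha hb =>
        obtain ⟨a', ha', s₁, h₁⟩ := ha
        obtain ⟨b', hb', s₂, h₂⟩ := hb
        refine ⟨(s₂ : R) • a' + (s₁ : R) • b', K.add_mem (K.smul_mem _ ha') (K.smul_mem _ hb'), s₁ * s₂, ?_⟩
        rw [map_add, map_smul, map_smul, ← h₁, ← h₂, smul_add, Submonoid.smul_def, Submonoid.smul_def,
          Submonoid.smul_def, Submonoid.smul_def, Submonoid.coe_mul, smul_smul, smul_smul, mul_comm (s₂ : R)]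
      | smul c a _ ha =>
        obtain ⟨a', ha', s₁, h₁⟩ := ha
        obtain ⟨⟨r, s₂⟩, hr⟩ := IsLocalization.surj (Submonoid.powers (f t)) c
        change c * algebraMap R (Rf t) s₂ = algebraMap R (Rf t) r at hr
        refine ⟨r • a', K.smul_mem _ ha', s₁ * s₂, ?_⟩
        rw [map_smul, ← h₁, Submonoid.smul_def, Submonoid.smul_def, Submonoid.coe_mul,
          ← algebraMap_smul (Rf t) r, ← hr, ← algebraMap_smul (Rf t) (s₁ : R) a,
          ← algebraMap_smul (Rf t) ((s₁ : R) * s₂), map_mul, smul_smul, smul_smul]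
        congr 1; ring
    obtain ⟨s', hs'⟩ := IsLocalizedModule.exists_of_eq (S := Submonoid.powers (f t)) (f := C t)
      (show C t ((s : R) • x) = C t x' by rw [map_smul]; exact hs)
    obtain ⟨k, hk⟩ := (s' * s).2
    refine ⟨k, ?_⟩
    show (Submodule.Quotient.mk (f t ^ k • x) : (S₀ → R) ⧸ K) = 0
    rw [Submodule.Quotient.mk_eq_zero, show f t ^ k = (s' : R) * s from hk, mul_smul]
    have := K.smul_mem (s' : R) hx'K
    rw [← Submonoid.smul_def] at this ⊢
    rwa [hs']
  · obtain ⟨z, hz⟩ := hPs t (ι t m)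
    obtain ⟨⟨x, s⟩, hxs⟩ := IsLocalizedModule.surj (Submonoid.powers (f t)) (C t) z
    change s • z = C t x at hxs
    have h1 : ι t (p x) = ι t ((s : R) • m) := by
      rw [← hPC, ← hxs, Submonoid.smul_def, ← algebraMap_smul (Rf t) (s : R) z, map_smul, algebraMap_smul, hz,
        map_smul]
    obtain ⟨s', hs'⟩ := IsLocalizedModule.exists_of_eq (S := Submonoid.powers (f t)) (f := ι t) h1
    obtain ⟨k, hk⟩ := (s' * s).2
    refine ⟨k, K.mkQ ((s' : R) • x), ?_⟩
    rw [Submodule.mkQ_apply, Submodule.liftQ_apply, map_smul, show f t ^ k = (s' : R) * s from hk,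
      mul_smul]
    exact hs'

end Groth.Agent.H17.FPExt
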