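import Groth.Agent.H17.FPExt.Basic
import Groth.Agent.H17.FPExt.Alg
import Groth.Agent.H8Props.FinLocFree.Global
import Groth.Agent.H8Props.FinLocFree.Sheaf
import Groth.Agent.H16Derived.KFlat.PerfAmp

/-!
# Finitely presented models of quasi-coherent modules on qcqs schemes

`exists_fp_model`: if `P` is quasi-coherent with finitely presented sections on some affine opens,
there is a finitely presented `P'` with `P' ⟶ P` an isomorphism over their union.
-/

set_option autoImplicit false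
set_option linter.style.haveILetI false
universe u

open CategoryTheory CategoryTheory.Limits AlgebraicGeometry Opposite TopologicalSpace

namespace Groth.Agent.H17.FPExt

open H29Fitt H8Props.FinLocFree

variable {X : Scheme.{u}}

/-- Sections of `P` over the affine `V` are finitely presented. -/
def FPAt (P : X.Modules) (V : X.Opens) : Prop := Module.FinitePresentation Γ(X, V) Γ(P, V)

theorem FPAt.of_eq {P : X.Modules} {V W : X.Opens} (h : FPAt P V) (e : V = W) : FPAt P W := e ▸ h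

theorem FPAt.basicOpen {P : X.Modules} (hP : Coh.IsQCoh P) {V : X.Opens} (hV : IsAffineOpen V)
    (h : FPAt P V) (g : Γ(X, V)) : FPAt P (X.basicOpen g) := by
  letI := Module.compHom Γ(P, X.basicOpen g) (algebraMap Γ(X, V) Γ(X, X.basicOpen g))
  haveI : IsScalarTower Γ(X, V) Γ(X, X.basicOpen g) Γ(P, X.basicOpen g) :=
    .of_algebraMap_smul fun _ _ => rfl
  haveI := hV.isLocalization_basicOpen g
  haveI := isLocalizedModule_resLin P hP hV g
  haveI : Module.FinitePresentation Γ(X, V) Γ(P, V) := h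
  exact FinitePresentation.of_isBaseChange (resLin P g)
    (IsLocalizedModule.isBaseChange (Submonoid.powers g) Γ(X, X.basicOpen g) (resLin P g))

theorem fpAt_of_isoAt {P' P : X.Modules} (π : P' ⟶ P) {V : X.Opens} (h : ∀ x ∈ V, IsoAt π x)
    (hV : FPAt P V) : FPAt P' V := by
  have hb := bijective_app_of_isoAt π V h
  haveI : Module.FinitePresentation Γ(X, V) Γ(P, V) := hV
  let e : Γ(P', V) ≃ₗ[Γ(X, V)] Γ(P, V) :=
    LinearEquiv.ofBijective
      { toFun := π.app V, map_add' := map_add _, map_smul' := fun a m => Scheme.Modules.Hom.app_smul π a m } hb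
  exact Module.FinitePresentation.of_equiv e.symm

theorem exists_step [QuasiSeparatedSpace X] (P : X.Modules) (hP : Coh.IsQCoh P)
    (L : List X.Opens) (hL : ∀ A ∈ L, IsAffineOpen A ∧ FPAt P A) (V : X.Opens) (hV : IsAffineOpen V) :
    ∃ (P' : X.Modules) (π : P' ⟶ P), Coh.IsQCoh P' ∧ FPAt P' V ∧
      ∀ A ∈ L, ∀ x ∈ A, IsoAt π x := by
  classical
  -- a finite cover of the part of `V` in the affines of `L`
  have hcov : ∃ T : Finset Γ(X, V), (∀ f ∈ T, FPAt P (X.basicOpen f)) ∧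
      ∀ A ∈ L, ∀ x ∈ A, x ∈ V → ∃ f ∈ T, x ∈ X.basicOpen f := by
    have h : ∀ A ∈ L, ∀ x ∈ (A : Set X) ∩ V, ∃ f : Γ(X, V), x ∈ X.basicOpen f ∧ FPAt P (X.basicOpen f) := by
      intro A hA x hx
      obtain ⟨f, g, hfg, hxf⟩ := exists_basicOpen_le_affine_inter hV (hL A hA).1 x ⟨hx.2, hx.1⟩
      exact ⟨f, hxf, ((hL A hA).2.basicOpen hP (hL A hA).1 g).of_eq hfg.symm⟩
    have hT : ∀ A : {A // A ∈ L}, ∃ T : Finset Γ(X, V), (∀ f ∈ T, FPAt P (X.basicOpen f)) ∧
        ∀ x ∈ A.1, x ∈ V → ∃ f ∈ T, x ∈ X.basicOpen f := by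
      rintro ⟨A, hA⟩
      choose f hxf hf using h A hA
      have hc : IsCompact ((A : Set X) ∩ V) :=
        QuasiSeparatedSpace.inter_isCompact _ _ A.isOpen (hL A hA).1.isCompact V.isOpen hV.isCompact
      obtain ⟨T, hT⟩ := hc.elim_finite_subcover
        (fun x : ↥((A : Set X) ∩ V) => (X.basicOpen (f x.1 x.2) : Set X))
        (fun x => (X.basicOpen _).isOpen) (fun x hx => Set.mem_iUnion.2 ⟨⟨x, hx⟩, hxf x hx⟩)
      refine ⟨T.image fun x => f x.1 x.2, ?_, fun x hxA hxV => ?_⟩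
      · intro g hg
        obtain ⟨y, -, rfl⟩ := Finset.mem_image.1 hg
        exact hf _ _
      · obtain ⟨y, hy, hxy⟩ := Set.mem_iUnion₂.1 (hT ⟨hxA, hxV⟩)
        exact ⟨_, Finset.mem_image_of_mem _ hy, hxy⟩
    choose T hT1 hT2 using hT
    refine ⟨L.attach.toFinset.biUnion T, fun f hf => ?_, fun A hA x hxA hxV => ?_⟩
    · obtain ⟨A, -, hfA⟩ := Finset.mem_biUnion.1 hf
      exact hT1 A f hfA
    · obtain ⟨f, hf, hxf⟩ := hT2 ⟨A, hA⟩ x hxA hxV
      exact ⟨f, Finset.mem_biUnion.2 ⟨⟨A, hA⟩, by simp, hf⟩, hxf⟩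
  obtain ⟨T, hT, hcovT⟩ := hcov
  -- the algebraic model
  letI : ∀ f : T, Module Γ(X, V) Γ(P, X.basicOpen f.1) := fun f =>
    Module.compHom _ (algebraMap Γ(X, V) Γ(X, X.basicOpen f.1))
  haveI : ∀ f : T, IsScalarTower Γ(X, V) Γ(X, X.basicOpen f.1) Γ(P, X.basicOpen f.1) :=
    fun f => .of_algebraMap_smul fun _ _ => rfl
  haveI : ∀ f : T, IsLocalization.Away f.1 Γ(X, X.basicOpen f.1) := fun f => hV.isLocalization_basicOpen f.1
  haveI : ∀ f : T, IsLocalizedModule (Submonoid.powers f.1) (resLin P f.1) :=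
    fun f => isLocalizedModule_resLin P hP hV f.1
  haveI : ∀ f : T, Module.FinitePresentation Γ(X, X.basicOpen f.1) Γ(P, X.basicOpen f.1) :=
    fun f => hT f.1 f.2
  obtain ⟨n, ⟨e⟩⟩ := Finite.exists_equiv_fin ↥T
  obtain ⟨N, _, _, _, g, hg⟩ := exists_local_model (R := Γ(X, V)) (M := Γ(P, V))
    (fun i : Fin n => (e.symm i).1) (fun i => Γ(X, X.basicOpen (e.symm i).1))
    (fun i => Γ(P, X.basicOpen (e.symm i).1)) (fun i => resLin P (e.symm i).1)
  -- as a map of sheaves on `Spec Γ(X, V)`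
  haveI : P.IsQuasicoherent := hP
  let R : CommRingCat.{u} := Γ(X, V)
  let j : Spec R ⟶ X := hV.fromSpec
  haveI : QuasiCompact j := inferInstanceAs (QuasiCompact hV.fromSpec)
  let Q := (Scheme.Modules.restrictFunctor j).obj P
  haveI : Q.IsQuasicoherent := inferInstanceAs (((Scheme.Modules.restrictFunctor j).obj P).IsQuasicoherent)
  have htop : j ''ᵁ ⊤ = V := by
    rw [Scheme.Hom.image_top_eq_opensRange]; exact hV.opensRange_fromSpec
  let NN : ModuleCat.{u} R := ModuleCat.of R N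
  let e0 : Γ(P, V) →+ Γ(Q, (⊤ : (Spec R).Opens)) :=
    (P.restrictAppIso j ⊤).inv.hom.comp (P.presheaf.map (homOfLE htop.le).op).hom
  have he0 : ∀ (r : R) (m : Γ(P, V)), e0 (r • m) = r • e0 m := by
    intro r m
    show (P.restrictAppIso j ⊤).inv (P.presheaf.map (homOfLE htop.le).op (r • m)) = _
    rw [Scheme.Modules.map_smul, Scheme.Modules.smul_restrictAppIso_inv_apply, Scheme.Modules.smul_Spec_def]
    have hid : (⊤ : (Spec R).Opens).leTop.op = 𝟙 _ := Subsingleton.elim _ _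
    rw [hid, CategoryTheory.Functor.map_id, ← H29Blow.res_eq_appIso_inv hV htop.le]
    exact congrArg (· • _) (congr($((j.appIso ⊤).inv_hom_id) ((Scheme.ΓSpecIso R).inv r)))
  let gg : NN ⟶ moduleSpecΓFunctor.obj Q := ModuleCat.ofHom
    (Y := moduleSpecΓFunctor.obj Q) (X := N)
    { toFun := fun x => e0 (g x)
      map_add' := fun a b => by (rw [map_add, map_add]; rfl)
      map_smul' := fun r x => by rw [map_smul, RingHom.id_apply]; exact he0 r (g x) }
  let β : tilde NN ⟶ Q := (tilde.adjunction.homEquiv NN Q).symm gg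
  have hβ : ∀ x : N, β.app ⊤ (toTop NN x) = e0 (g x) := by
    intro x
    have h := (tilde.adjunction.homEquiv NN Q).apply_symm_apply gg
    rw [Adjunction.homEquiv_unit] at h
    exact congr($h x)
  obtain ⟨P', π, ee, hP', hee, hiso⟩ := exists_modify P hP j (tilde NN)
    (inferInstanceAs ((tilde NN).IsQuasicoherent)) β
  refine ⟨P', π, hP', ?_, ?_⟩
  · -- finite presentation
    have hN : Module.FinitePresentation Γ(Spec R, ⊤) Γ(tilde NN, (⊤ : (Spec R).Opens)) :=
      (finitePresentation_top_iff NN).2 (inferInstanceAs (Module.FinitePresentation R N))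
    haveI : Module.FinitePresentation Γ(Spec R, ⊤) Γ((Scheme.Modules.restrictFunctor j).obj P', ⊤) := by
      refine finitePresentation_of_semilinear (RingHom.id _) Function.bijective_id (ee.inv.app ⊤).hom
        (fun a m => Scheme.Modules.Hom.app_smul _ a m) ?_ (M := Γ(tilde NN, (⊤ : (Spec R).Opens)))
      exact ConcreteCategory.bijective_of_isIso (ee.inv.app ⊤)
    refine FPAt.of_eq ?_ htop
    exact finitePresentation_of_semilinear (j.appIso ⊤).inv.hom
      (ConcreteCategory.bijective_of_isIso (j.appIso ⊤).inv) (P'.restrictAppIso j ⊤).hom.hom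
      (fun a m => rfl) (ConcreteCategory.bijective_of_isIso (P'.restrictAppIso j ⊤).hom)
  · intro A hA x hx
    refine hiso x A hx fun z hz => ?_
    obtain ⟨f, hf, hzf⟩ := hcovT A hA (j z) hz (hV.range_fromSpec.le ⟨z, rfl⟩)
    have hsymm : (e.symm (e ⟨f, hf⟩)).1 = f := by rw [Equiv.symm_apply_apply]
    obtain ⟨hk, hs⟩ := hg (e ⟨f, hf⟩)
    simp only [hsymm] at hk hs
    let f' : Γ(Spec R, (⊤ : (Spec R).Opens)) := (Scheme.ΓSpecIso R).inv f
    refine isoAt_of_torsion (inferInstanceAs ((tilde NN).IsQuasicoherent)) (inferInstanceAs Q.IsQuasicoherent) β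
      (isAffineOpen_top (Spec R)) f' ?_ ?_ ?_
    · intro a ha
      obtain ⟨x, rfl⟩ := (bijective_toTop NN).2 a
      rw [hβ] at ha
      have he0i : Function.Injective e0 := (ConcreteCategory.bijective_of_isIso (P.restrictAppIso j ⊤).inv).1.comp
        (ConcreteCategory.bijective_of_isIso (P.presheaf.map (eqToHom htop).op)).1
      obtain ⟨k, hk'⟩ := hk x (he0i (ha.trans (map_zero e0).symm))
      refine ⟨k, ?_⟩
      rw [← map_pow, ← toTop_smul, show (f ^ k • x : NN) = 0 from hk', map_zero]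
    · intro b
      obtain ⟨m, rfl⟩ : ∃ m, e0 m = b := by
        obtain ⟨c, rfl⟩ := (ConcreteCategory.bijective_of_isIso (P.restrictAppIso j ⊤).inv).2 b
        obtain ⟨m, rfl⟩ := (ConcreteCategory.bijective_of_isIso (P.presheaf.map (eqToHom htop).op)).2 c
        exact ⟨m, rfl⟩
      obtain ⟨k, y, hy⟩ := hs m
      refine ⟨k, toTop NN y, ?_⟩
      rw [hβ, hy, he0, ← map_pow, Scheme.Modules.smul_Spec_def]
      rw [show (⊤ : (Spec R).Opens).leTop.op = 𝟙 _ from Subsingleton.elim _ _, CategoryTheory.Functor.map_id]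
      rfl
    · rw [show f' = (Scheme.ΓSpecIso R).inv f from rfl, basicOpen_eq_of_affine]
      have hp : z ∈ j ⁻¹ᵁ X.basicOpen f := hzf
      rwa [hV.fromSpec_preimage_basicOpen] at hp

theorem exists_fp_model [CompactSpace X] [QuasiSeparatedSpace X] (P : X.Modules) (hP : Coh.IsQCoh P)
    (L : List X.Opens) (hL : ∀ A ∈ L, IsAffineOpen A ∧ FPAt P A) :
    ∃ (P' : X.Modules) (π : P' ⟶ P), CohB1.IsFP P' ∧ ∀ A ∈ L, ∀ x ∈ A, IsoAt π x := by
  classical
  obtain ⟨t, ht⟩ := isCompact_univ.elim_finite_subcover (fun U : X.affineOpens => (U.1 : Set X))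
    (fun U => U.1.isOpen) (fun x _ => by
      obtain ⟨U, hU, hxU, -⟩ := exists_isAffineOpen_mem_and_subset (X := X) (x := x) (U := ⊤) trivial
      exact Set.mem_iUnion.2 ⟨⟨U, hU⟩, hxU⟩)
  have main : ∀ (C : List X.affineOpens) (P : X.Modules), Coh.IsQCoh P → ∀ (L : List X.Opens),
      (∀ A ∈ L, IsAffineOpen A ∧ FPAt P A) → ∃ (P' : X.Modules) (π : P' ⟶ P), Coh.IsQCoh P' ∧
        (∀ A ∈ L, ∀ x ∈ A, IsoAt π x) ∧ (∀ A ∈ L, FPAt P' A) ∧ ∀ V ∈ C, FPAt P' V.1 := by
    intro C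
    induction C with
    | nil => exact fun P hP L hL =>
        ⟨P, 𝟙 P, hP, fun _ _ x _ => isoAt_of_isIso _ x, fun A hA => (hL A hA).2, by simp⟩
    | cons V C ih =>
      intro P hP L hL
      obtain ⟨P₁, π₁, hP₁, hV₁, hiso₁⟩ := exists_step P hP L hL V.1 V.2
      obtain ⟨P₂, π₂, hP₂, hiso₂, hL₂, hC₂⟩ := ih P₁ hP₁ (V.1 :: L) (by
        rintro A (_ | ⟨_, hA⟩)
        · exact ⟨V.2, hV₁⟩
        · exact ⟨(hL A hA).1, fpAt_of_isoAt π₁ (hiso₁ A hA) (hL A hA).2⟩)
      refine ⟨P₂, π₂ ≫ π₁, hP₂, fun A hA x hx =>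
        (hiso₂ A (List.mem_cons_of_mem _ hA) x hx).comp (hiso₁ A hA x hx),
        fun A hA => hL₂ A (List.mem_cons_of_mem _ hA), ?_⟩
      rintro W (_ | ⟨_, hW⟩)
      · exact hL₂ _ List.mem_cons_self
      · exact hC₂ W hW
  obtain ⟨P', π, hP', hiso, -, hC⟩ := main t.toList P hP L hL
  refine ⟨P', π, H8Props.FinLocFree.isFP_of_affineCover P' hP' (I := ↥t) (fun V => V.1.1)
    (eq_top_iff.2 fun x _ => ?_) (fun V => V.1.2) (fun V => hC V.1 (Finset.mem_toList.2 V.2)), hiso⟩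
  obtain ⟨U, hU, hxU⟩ := Set.mem_iUnion₂.1 (ht (Set.mem_univ x))
  exact Opens.mem_iSup.2 ⟨⟨U, hU⟩, hxU⟩

end Groth.Agent.H17.FPExt
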