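import Groth.Agent.H17.FPExt.Closure
import Groth.Agent.H17.QCohCat.Groth
import Groth.Agent.H17.CohSub
import Groth.Agent.H06EGA9.StructureStalk
import Groth.Agent.S2115

/-!
# On a qcqs scheme every quasi-coherent module is a filtered colimit of finitely presented ones
-/

set_option autoImplicit false
set_option linter.style.haveILetI false
universe u

open CategoryTheory CategoryTheory.Limits AlgebraicGeometry Opposite TopologicalSpace

namespace Groth.Agent.H17.FPExt

open H29Fitt PushColim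
open scoped ZeroObject

variable {X : Scheme.{u}}

theorem isZero_of_stalk (C : X.Modules) (h : ∀ x : X, Subsingleton (C.presheaf.stalk x)) : IsZero C := by
  refine (IsZero.iff_id_eq_zero _).2 (Scheme.Modules.hom_ext _ _ fun V => ?_)
  ext σ
  exact TopCat.Presheaf.section_ext (⟨C.presheaf, C.isSheaf⟩ : TopCat.Sheaf Ab X) V _ _
    fun y _ => (h y).elim _ _

variable [CompactSpace X] [QuasiSeparatedSpace X]

/-- A section over an affine comes from a finitely presented module. -/
theorem exists_fp_through (A : X.Modules) (hA : Coh.IsQCoh A) (U : X.affineOpens) (s : Γ(A, U.1)) :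
    ∃ (P : X.Modules) (φ : P ⟶ A), CohB1.IsFP P ∧ s ∈ Set.range (φ.app U.1) := by
  obtain ⟨P, φ, e, hP, he⟩ := Groth.Agent.S2115.result X A hA U.1 U.2.isCompact
    (Coh.structureModule _) H06EGA9.isFP_structureModule (CohSub.secHom A U.1 s)
  have htop : U.1.ι ''ᵁ ⊤ = U.1 := Scheme.Opens.ι_image_top _
  have key : ((Scheme.Modules.restrictFunctor U.1.ι).map φ).app ⊤ (e.inv.app ⊤ (H10Coh.oneSec ⊤)) =
      (A.restrictAppIso U.1.ι ⊤).inv (A.presheaf.map (homOfLE (U.1.ι_image_le ⊤)).op s) := by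
    rw [← he, ← CohSub.secHom_app_one A U.1 s ⊤, ← ConcreteCategory.comp_apply,
      ← Scheme.Modules.Hom.comp_app, e.inv_hom_id_assoc]
  let p' : Γ(P, U.1.ι ''ᵁ ⊤) := e.inv.app ⊤ (H10Coh.oneSec ⊤)
  refine ⟨P, φ, hP, P.presheaf.map (homOfLE htop.ge).op p', ?_⟩
  have h1 : φ.app (U.1.ι ''ᵁ ⊤) p' = A.presheaf.map (homOfLE (U.1.ι_image_le ⊤)).op s := key
  refine (ConcreteCategory.congr_hom (φ.mapPresheaf.naturality (homOfLE htop.ge).op) p').trans ?_
  show A.presheaf.map (homOfLE htop.ge).op (φ.app (U.1.ι ''ᵁ ⊤) p') = s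
  rw [h1, ← ConcreteCategory.comp_apply, ← Functor.map_comp, Subsingleton.elim (_ ≫ _) (𝟙 (op U.1))]
  simp

variable (X) in
/-- The index type of the finitely presented generators. -/
abbrev GI : Type u := Σ (i : QCohGroth.Idx X) (U : X.affineOpens), Γ(QCohGen.genOf i.1, U.1)

/-- The finitely presented generators. -/
noncomputable def fpGen (g : GI X) : X.Modules :=
  (exists_fp_through (QCohGen.genOf g.1.1) g.1.2 g.2.1 g.2.2).choose

theorem isFP_fpGen (g : GI X) : CohB1.IsFP (fpGen g) :=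
  (exists_fp_through (QCohGen.genOf g.1.1) g.1.2 g.2.1 g.2.2).choose_spec.choose_spec.1

theorem exists_fpGen (F : X.Modules) (hF : Coh.IsQCoh F) (U : X.affineOpens) (s : Γ(F, U.1)) :
    ∃ (g : GI X) (φ : fpGen g ⟶ F), s ∈ Set.range (φ.app U.1) := by
  obtain ⟨i, ψ, hi, t, rfl⟩ := QCohGen.exists_gen F hF U s
  let g : GI X := ⟨⟨i, hi⟩, U, t⟩
  let h := (exists_fp_through (QCohGen.genOf g.1.1) g.1.2 g.2.1 g.2.2).choose_spec
  obtain ⟨p, hp⟩ := h.choose_spec.2
  refine ⟨g, h.choose ≫ ψ, p, ?_⟩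
  rw [Scheme.Modules.Hom.comp_app, ConcreteCategory.comp_apply]
  exact congrArg (ψ.app U.1) hp

/-- Finite sums of the generators. -/
noncomputable def lsum : List (GI X) → X.Modules
  | [] => 0
  | g :: l => fpGen g ⊞ lsum l

theorem isFP_lsum : ∀ l : List (GI X), CohB1.IsFP (lsum l)
  | [] => isFP_zero _ (isZero_zero _)
  | g :: l => isFP_biprod (isFP_fpGen g) (isFP_lsum l)

theorem exists_lsum_hom (M : X.Modules) : ∀ L : List (Σ g : GI X, fpGen g ⟶ M),
    ∃ q : lsum (L.map Sigma.fst) ⟶ M, ∀ p ∈ L, ∀ (V : X.Opens) (t : Γ(fpGen p.1, V)),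
      p.2.app V t ∈ Set.range (q.app V)
  | [] => ⟨0, by simp⟩
  | p :: L => by
    obtain ⟨q, hq⟩ := exists_lsum_hom M L
    let q' : fpGen p.1 ⊞ lsum (L.map Sigma.fst) ⟶ M := biprod.desc p.2 q
    refine ⟨q', ?_⟩
    rintro p' (_ | ⟨_, hp'⟩) V t
    · refine ⟨(biprod.inl : fpGen p.1 ⟶ fpGen p.1 ⊞ lsum (L.map Sigma.fst)).app V t, ?_⟩
      show q'.app V _ = _
      rw [← ConcreteCategory.comp_apply, ← Scheme.Modules.Hom.comp_app, biprod.inl_desc]
    · obtain ⟨r, hr⟩ := hq p' hp' V t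
      refine ⟨(biprod.inr : lsum (L.map Sigma.fst) ⟶ fpGen p.1 ⊞ lsum (L.map Sigma.fst)).app V r, ?_⟩
      show q'.app V _ = _
      rw [← ConcreteCategory.comp_apply, ← Scheme.Modules.Hom.comp_app, biprod.inr_desc, hr]

theorem exists_epi_lsum (M : X.Modules) (hM : CohB1.IsFP M) :
    ∃ (l : List (GI X)) (q : lsum l ⟶ M), Epi q := by
  classical
  haveI : M.IsQuasicoherent := isQCoh_of_isFP M hM
  obtain ⟨t, ht⟩ := isCompact_univ.elim_finite_subcover (fun U : X.affineOpens => (U.1 : Set X))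
    (fun U => U.1.isOpen) (fun x _ => by
      obtain ⟨U, hU, hxU, -⟩ := exists_isAffineOpen_mem_and_subset (X := X) (x := x) (U := ⊤) trivial
      exact Set.mem_iUnion.2 ⟨⟨U, hU⟩, hxU⟩)
  have hgen : ∀ U : X.affineOpens, ∃ L : List (Σ g : GI X, fpGen g ⟶ M), ∃ G : Finset Γ(M, U.1),
      Submodule.span Γ(X, U.1) (G : Set Γ(M, U.1)) = ⊤ ∧ ∀ s ∈ G, ∃ p ∈ L, s ∈ Set.range (p.2.app U.1) := by
    intro U
    haveI : Module.FinitePresentation Γ(X, U.1) Γ(M, U.1) := fpAt_of_isFP hM U.2
    obtain ⟨G, hG⟩ := (inferInstance : Module.Finite Γ(X, U.1) Γ(M, U.1)).fg_top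
    choose g φ hφ using fun s : Γ(M, U.1) => exists_fpGen M inferInstance U s
    exact ⟨G.toList.map fun s => ⟨g s, φ s⟩, G, hG, fun s hs =>
      ⟨⟨g s, φ s⟩, List.mem_map.2 ⟨s, Finset.mem_toList.2 hs, rfl⟩, hφ s⟩⟩
  choose L G hG hL using hgen
  obtain ⟨q, hq⟩ := exists_lsum_hom M (t.toList.flatMap L)
  refine ⟨_, q, ?_⟩
  haveI : (lsum ((t.toList.flatMap L).map Sigma.fst)).IsQuasicoherent :=
    isQCoh_of_isFP _ (isFP_lsum _)
  haveI := H10Coh.isQuasicoherent_cokernel q
  refine Preadditive.epi_of_isZero_cokernel _ (isZero_of_stalk _ fun x => ?_)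
  obtain ⟨U, hU, hxU⟩ := Set.mem_iUnion₂.1 (ht (Set.mem_univ x))
  haveI : Subsingleton Γ(cokernel q, U.1) := by
    refine subsingleton_of_forall_eq 0 fun c => ?_
    obtain ⟨b, rfl⟩ := H10Coh.surjective_app_of_epi (cokernel.π q) U.2 c
    have hb : b ∈ Submodule.span Γ(X, U.1) (G U : Set Γ(M, U.1)) := hG U ▸ Submodule.mem_top
    induction hb using Submodule.span_induction with
    | mem s hs =>
      obtain ⟨p, hp, r, rfl⟩ := hL U s hs
      obtain ⟨z, hz⟩ := hq p (List.mem_flatMap.2 ⟨U, Finset.mem_toList.2 hU, hp⟩) U.1 r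
      rw [← hz]
      exact congr($(congr(Scheme.Modules.Hom.app $(cokernel.condition q) U.1)) z)
    | zero => exact map_zero _
    | add a b _ _ ha hb => rw [map_add, ha, hb, add_zero]
    | smul r a _ ha => rw [Scheme.Modules.Hom.app_smul, ha, smul_zero]
  rw [← not_nontrivial_iff_subsingleton,
    H22Alg.CohSupport.nontrivial_stalk_iff _ inferInstance U.2 ⟨x, hxU⟩, Module.support_eq_empty]
  exact fun h => h

instance (l : List (GI X)) : Small.{u} (Subobject (lsum l)) := H10Coh.small_subobject _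

variable (X) in
/-- A small set of representatives of finitely presented modules. -/
abbrev FPIdx : Type u :=
  {p : Σ l : List (GI X), Shrink.{u} (Subobject (lsum l)) //
    CohB1.IsFP (cokernel ((equivShrink (Subobject (lsum p.1))).symm p.2).arrow)}

/-- The representative. -/
noncomputable def fpObj (p : FPIdx X) : X.Modules :=
  cokernel ((equivShrink (Subobject (lsum p.1.1))).symm p.1.2).arrow

theorem exists_iso_fpObj (M : X.Modules) (hM : CohB1.IsFP M) : ∃ p : FPIdx X, Nonempty (fpObj p ≅ M) := by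
  obtain ⟨l, q, hq⟩ := exists_epi_lsum M hM
  have key : ∀ P : Subobject (lsum l), P = Subobject.mk (kernel.ι q) →
      Nonempty (cokernel P.arrow ≅ M) := by
    rintro _ rfl
    exact ⟨cokernel.mapIso _ (kernel.ι q) (Subobject.underlyingIso _) (Iso.refl _) (by simp) ≪≫
      (cokernelIsCokernel (kernel.ι q)).coconePointUniqueUpToIso
        (Abelian.epiIsCokernelOfKernel (KernelFork.ofι (kernel.ι q) (kernel.condition q)) (kernelIsKernel q))⟩
  obtain ⟨e⟩ := key _ ((equivShrink (Subobject (lsum l))).symm_apply_apply (Subobject.mk (kernel.ι q)))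
  exact ⟨⟨⟨l, equivShrink _ (Subobject.mk (kernel.ι q))⟩,
    H16Derived.KFlat.Stalk.isFP_of_iso e.symm hM⟩, ⟨e⟩⟩

variable (F : X.Modules)

/-- The category of (representatives of) finitely presented modules over `F`. -/
abbrev FPOver : Type u := InducedCategory (Over F) fun i : Σ p : FPIdx X, (fpObj p ⟶ F) => Over.mk i.2

/-- The tautological diagram. -/
noncomputable def diagram : FPOver F ⥤ X.Modules := inducedFunctor _ ⋙ Over.forget F

/-- The tautological cocone. -/
noncomputable def cocone : Cocone (diagram F) where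
  pt := F
  ι := { app := fun i => i.2
         naturality := fun i j f => by
           show f.hom.left ≫ j.2 = i.2 ≫ 𝟙 F
           rw [Category.comp_id]
           exact Over.w f.hom }

theorem exists_obj (M : X.Modules) (hM : CohB1.IsFP M) (φ : M ⟶ F) :
    ∃ (j : FPOver F) (e : fpObj j.1 ≅ M), j.2 = e.hom ≫ φ := by
  obtain ⟨p, ⟨e⟩⟩ := exists_iso_fpObj M hM
  exact ⟨(⟨p, e.hom ≫ φ⟩ : Σ p : FPIdx X, (fpObj p ⟶ F)), e, rfl⟩

/-- A morphism of the index category. -/
noncomputable def mkHom {i j : FPOver F} (a : fpObj i.1 ⟶ fpObj j.1) (h : a ≫ j.2 = i.2) : i ⟶ j :=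
  InducedCategory.homMk (Over.homMk a h)

theorem isFiltered (hF : Coh.IsQCoh F) : IsFiltered (FPOver F) where
  nonempty := by
    obtain ⟨j, -⟩ := exists_obj F (lsum []) (isFP_lsum []) 0
    exact ⟨j⟩
  cocone_objs i j := by
    obtain ⟨k, e, hk⟩ := exists_obj F (fpObj i.1 ⊞ fpObj j.1) (isFP_biprod i.1.2 j.1.2)
      (biprod.desc i.2 j.2)
    exact ⟨k, mkHom F (biprod.inl ≫ e.inv) (by rw [hk, Category.assoc, e.inv_hom_id_assoc, biprod.inl_desc]),
      mkHom F (biprod.inr ≫ e.inv) (by rw [hk, Category.assoc, e.inv_hom_id_assoc, biprod.inr_desc]), trivial⟩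
  cocone_maps i j a b := by
    let d : fpObj i.1 ⟶ fpObj j.1 := a.hom.left - b.hom.left
    have hd : d ≫ j.2 = 0 := by
      rw [Preadditive.sub_comp, sub_eq_zero]
      exact (Over.w a.hom).trans (Over.w b.hom).symm
    obtain ⟨k, e, hk⟩ := exists_obj F (cokernel d)
      (isFP_cokernel d (isQCoh_of_isFP (fpObj i.1) i.1.2) (isFT_of_isFP (fpObj i.1) i.1.2) j.1.2)
      (cokernel.desc d j.2 hd)
    refine ⟨k, mkHom F (cokernel.π d ≫ e.inv)
      (by rw [hk, Category.assoc, e.inv_hom_id_assoc, cokernel.π_desc]), ?_⟩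
    refine InducedCategory.hom_ext (Over.OverMorphism.ext ?_)
    show a.hom.left ≫ cokernel.π d ≫ e.inv = b.hom.left ≫ cokernel.π d ≫ e.inv
    rw [← Category.assoc, ← Category.assoc]
    congr 1
    exact sub_eq_zero.1 ((Preadditive.sub_comp _ _ _).symm.trans (cokernel.condition d))

theorem nonempty_isColimit (hF : Coh.IsQCoh F) : Nonempty (IsColimit (cocone F)) := by
  haveI := isFiltered F hF
  haveI : F.IsQuasicoherent := hF
  suffices h : IsIso ((colimit.isColimit (diagram F)).desc (cocone F)) from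
    ⟨IsColimit.ofPointIso (t := cocone F) (colimit.isColimit (diagram F))⟩
  let u := (colimit.isColimit (diagram F)).desc (cocone F)
  have hu : ∀ i, colimit.ι (diagram F) i ≫ u = i.2 := fun i => (colimit.isColimit (diagram F)).fac (cocone F) i
  refine isIso_of_stalkAb u fun x => ?_
  refine (ConcreteCategory.isIso_iff_bijective _).2 ⟨?_, ?_⟩
  · refine (injective_iff_map_eq_zero ((stalkAb x).map u).hom).2 fun y hy => ?_
    obtain ⟨i, t, rfl⟩ := Concrete.isColimit_exists_rep _
      (isColimitOfPreserves (stalkAb x) (colimit.isColimit (diagram F))) y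
    change (stalkAb x).map u ((stalkAb x).map (colimit.ι (diagram F) i) t) = 0 at hy
    rw [← ConcreteCategory.comp_apply, ← Functor.map_comp, hu] at hy
    obtain ⟨W, hxW, s, hs⟩ := (fpObj i.1).presheaf.exists_germ_eq t
    have h0 : F.presheaf.germ W x hxW (i.2.app W s) = 0 :=
      (TopCat.Presheaf.stalkFunctor_map_germ_apply W x hxW i.2.mapPresheaf s).symm.trans
        (by rw [← hs] at hy; exact hy)
    obtain ⟨W', hxW', ι₁, ι₂, hW'⟩ := F.presheaf.germ_eq x hxW hxW _ 0 (h0.trans (map_zero _).symm)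
    rw [map_zero] at hW'
    obtain ⟨U, hU, hxU, hle⟩ := exists_isAffineOpen_mem_and_subset (U := W') hxW'
    have hUW : U ≤ W := fun y hy => ι₁.le (hle hy)
    let s' := (fpObj i.1).presheaf.map (homOfLE hUW).op s
    have hs' : i.2.app U s' = 0 := by
      refine (ConcreteCategory.congr_hom (i.2.mapPresheaf.naturality (homOfLE hUW).op) s).trans ?_
      show F.presheaf.map (homOfLE hUW).op (i.2.app W s) = 0
      have := congrArg (F.presheaf.map (homOfLE hle).op) hW'
      rw [map_zero, ← ConcreteCategory.comp_apply, ← Functor.map_comp] at this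
      rw [Subsingleton.elim (homOfLE hUW).op (ι₁.op ≫ (homOfLE hle).op)]
      exact this
    haveI : (fpObj i.1).IsQuasicoherent := isQCoh_of_isFP _ i.1.2
    obtain ⟨k, hk⟩ := exists_kernel_preimage i.2 U s' hs'
    obtain ⟨g, γ, r, hr⟩ := exists_fpGen (kernel i.2) (H10Coh.isQuasicoherent_kernel i.2) ⟨U, hU⟩ k
    obtain ⟨j, e, hj⟩ := exists_obj F (cokernel (γ ≫ kernel.ι i.2))
      (isFP_cokernel _ (isQCoh_of_isFP _ (isFP_fpGen g)) (isFT_of_isFP _ (isFP_fpGen g)) i.1.2)
      (cokernel.desc _ i.2 (by rw [Category.assoc, kernel.condition, comp_zero]))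
    let a : i ⟶ j := mkHom F (cokernel.π (γ ≫ kernel.ι i.2) ≫ e.inv)
      (by rw [hj, Category.assoc, e.inv_hom_id_assoc, cokernel.π_desc])
    have hzero : (cokernel.π (γ ≫ kernel.ι i.2) ≫ e.inv).app U s' = 0 := by
      rw [← hk, ← hr, Scheme.Modules.Hom.comp_app, ConcreteCategory.comp_apply]
      have : (cokernel.π (γ ≫ kernel.ι i.2)).app U ((kernel.ι i.2).app U (γ.app U r)) = 0 :=
        congr($(congr(Scheme.Modules.Hom.app $(cokernel.condition (γ ≫ kernel.ι i.2)) U)) r)
      exact (congrArg (e.inv.app U) this).trans (map_zero _)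
    have hw : (stalkAb x).map (colimit.ι (diagram F) i) t =
        (stalkAb x).map (colimit.ι (diagram F) j) ((stalkAb x).map ((diagram F).map a) t) := by
      rw [← ConcreteCategory.comp_apply, ← Functor.map_comp, colimit.w]
    refine hw.trans ?_
    have ht0 : (stalkAb x).map ((diagram F).map a) t = 0 := by
      rw [← hs, ← TopCat.Presheaf.germ_res_apply (fpObj i.1).presheaf (homOfLE hUW) x hxU s]
      refine (TopCat.Presheaf.stalkFunctor_map_germ_apply U x hxU ((diagram F).map a).mapPresheaf s').trans ?_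
      show (fpObj j.1).presheaf.germ U x hxU ((cokernel.π (γ ≫ kernel.ι i.2) ≫ e.inv).app U s') = 0
      rw [hzero, map_zero]
    rw [ht0, map_zero]
  · intro τ
    obtain ⟨W, hxW, s, rfl⟩ := F.presheaf.exists_germ_eq τ
    obtain ⟨U, hU, hxU, hle⟩ := exists_isAffineOpen_mem_and_subset (U := W) hxW
    obtain ⟨g, φ, r, hr⟩ := exists_fpGen F hF ⟨U, hU⟩ (F.presheaf.map (homOfLE hle).op s)
    obtain ⟨j, e, hj⟩ := exists_obj F (fpGen g) (isFP_fpGen g) φ
    refine ⟨(stalkAb x).map (e.inv ≫ colimit.ι (diagram F) j) ((fpGen g).presheaf.germ U x hxU r), ?_⟩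
    rw [← ConcreteCategory.comp_apply, ← Functor.map_comp, Category.assoc]
    erw [hu, hj, e.inv_hom_id_assoc]
    refine (TopCat.Presheaf.stalkFunctor_map_germ_apply U x hxU φ.mapPresheaf r).trans ?_
    show F.presheaf.germ U x hxU (φ.app U r) = _
    rw [hr]
    exact TopCat.Presheaf.germ_res_apply _ _ _ _ _

theorem exists_isColimit_fp (hF : Coh.IsQCoh F) :
    ∃ (I : Type u) (_ : SmallCategory I) (_ : IsFiltered I) (D : I ⥤ X.Modules) (c : Cocone D)
      (_ : IsColimit c), (∀ i, CohB1.IsFP (D.obj i)) ∧ c.pt = F :=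
  ⟨FPOver F, inferInstance, isFiltered F hF, diagram F, cocone F, (nonempty_isColimit F hF).some,
    fun i => i.1.2, rfl⟩

end Groth.Agent.H17.FPExt
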