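import Groth.Agent.H17.FPExt.Colimit
import Groth.Agent.H15Site.QcColim

/-! Finitely presented modules are the compact objects among quasi-coherent modules. -/

set_option autoImplicit false
set_option linter.style.haveILetI false
universe u

open CategoryTheory CategoryTheory.Limits AlgebraicGeometry Opposite TopologicalSpace

namespace Groth.Agent.H17.FPExt

open H29Fitt PushColim H16Derived.KFlat.Stalk

variable {X : Scheme.{u}}

theorem hom_eq_zero_of_span {M N : X.Modules} (hM : Coh.IsQCoh M) (hN : Coh.IsQCoh N) (b : M ⟶ N)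
    (h : ∀ x : X, ∃ (U : X.Opens) (G : Set Γ(M, U)), IsAffineOpen U ∧ x ∈ U ∧
      Submodule.span Γ(X, U) G = ⊤ ∧ ∀ e ∈ G, b.app U e = 0) : b = 0 := by
  haveI : M.IsQuasicoherent := hM
  haveI : N.IsQuasicoherent := hN
  haveI : (kernel b).IsQuasicoherent := H10Coh.isQuasicoherent_kernel b
  haveI : (Abelian.coimage b).IsQuasicoherent := H10Coh.isQuasicoherent_cokernel (kernel.ι b)
  suffices hz : IsZero (Abelian.coimage b) by
    rw [← Abelian.coimage.fac b, hz.eq_of_tgt (Abelian.coimage.π b) 0, zero_comp]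
  refine isZero_of_stalk _ fun x => ?_
  obtain ⟨U, G, hU, hxU, hG, hb⟩ := h x
  haveI : Subsingleton Γ(Abelian.coimage b, U) := by
    refine subsingleton_of_forall_eq 0 fun c => ?_
    obtain ⟨a, rfl⟩ := H10Coh.surjective_app_of_epi (Abelian.coimage.π b) hU c
    refine H10Coh.injective_app_of_mono' (Abelian.factorThruCoimage b) U ?_
    rw [map_zero, ← ConcreteCategory.comp_apply, ← Scheme.Modules.Hom.comp_app, Abelian.coimage.fac]
    have ha : a ∈ Submodule.span Γ(X, U) G := hG ▸ Submodule.mem_top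
    induction ha using Submodule.span_induction with
    | mem s hs => exact hb s hs
    | zero => exact map_zero _
    | add a b _ _ ha hb => rw [map_add, ha, hb, add_zero]
    | smul r a _ ha => rw [Scheme.Modules.Hom.app_smul, ha, smul_zero]
  rw [← not_nontrivial_iff_subsingleton,
    H22Alg.CohSupport.nontrivial_stalk_iff _ inferInstance hU ⟨x, hxU⟩, Module.support_eq_empty]
  exact fun h => h

theorem exists_finite_cover [CompactSpace X] :
    ∃ t : Finset X.affineOpens, ∀ x : X, ∃ U ∈ t, x ∈ U.1 := by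
  obtain ⟨t, ht⟩ := isCompact_univ.elim_finite_subcover (fun U : X.affineOpens => (U.1 : Set X))
    (fun U => U.1.isOpen) (fun x _ => by
      obtain ⟨U, hU, hxU, -⟩ := exists_isAffineOpen_mem_and_subset (X := X) (x := x) (U := ⊤) trivial
      exact Set.mem_iUnion.2 ⟨⟨U, hU⟩, hxU⟩)
  exact ⟨t, fun x => by simpa using ht (Set.mem_univ x)⟩

variable [CompactSpace X] {J : Type u} [SmallCategory J] [IsFiltered J] {D : J ⥤ X.Modules}
  {c : Cocone D} (hc : IsColimit c) (hD : ∀ j, Coh.IsQCoh (D.obj j))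

include hc hD in
theorem exists_comp_eq_zero {M : X.Modules} (hM : Coh.IsQCoh M) (hMt : CohB1.IsFT M) {i : J}
    (a : M ⟶ D.obj i) (ha : a ≫ c.ι.app i = 0) : ∃ (j : J) (k : i ⟶ j), a ≫ D.map k = 0 := by
  classical
  obtain ⟨t, ht⟩ := exists_finite_cover (X := X)
  have hgen : ∀ U : X.affineOpens, ∃ G : Finset Γ(M, U.1), Submodule.span Γ(X, U.1) (G : Set Γ(M, U.1)) = ⊤ :=
    fun U => by
      haveI : M.IsQuasicoherent := hM
      exact (H10Coh.finite_sections M hMt U.2).fg_top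
  choose G hG using hgen
  have key : ∀ p : Σ U : ↥t, ↥(G U.1), ∃ (j : J) (k : i ⟶ j), (a ≫ D.map k).app p.1.1.1 p.2.1 = 0 := by
    intro p
    have h0 : ((toAb.mapCocone c).ι.app i).hom.app (op p.1.1.1) (a.app p.1.1.1 p.2.1) = 0 :=
      congr($(congr(Scheme.Modules.Hom.app $ha p.1.1.1)) p.2.1)
    exact H15Site.QcColim.exists_map_eq_zero (isColimitOfPreserves toAb hc) p.1.1.2.isCompact
      (a.app p.1.1.1 p.2.1) h0
  choose j k hk using key
  obtain ⟨l, g, hg⟩ := H15Site.QcColim.exists_common (ι := J) Finset.univ i j k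
  refine ⟨l, g, hom_eq_zero_of_span hM (hD l) _ fun x => ?_⟩
  obtain ⟨U, hU, hxU⟩ := ht x
  refine ⟨U.1, G U, U.2, hxU, hG U, fun e he => ?_⟩
  obtain ⟨g', hg'⟩ := hg ⟨⟨U, hU⟩, ⟨e, he⟩⟩ (Finset.mem_univ _)
  rw [← hg', D.map_comp, ← Category.assoc, Scheme.Modules.Hom.comp_app, ConcreteCategory.comp_apply,
    hk ⟨⟨U, hU⟩, ⟨e, he⟩⟩, map_zero]

variable [QuasiSeparatedSpace X]

include hc hD in
theorem exists_factor (hpt : Coh.IsQCoh c.pt) {M : X.Modules} (hM : CohB1.IsFP M) (b : M ⟶ c.pt) :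
    ∃ (j : J) (a : M ⟶ D.obj j), a ≫ c.ι.app j = b := by
  classical
  haveI : M.IsQuasicoherent := isQCoh_of_isFP M hM
  haveI : ∀ j, (D.obj j).IsQuasicoherent := hD
  haveI : c.pt.IsQuasicoherent := hpt
  obtain ⟨t, ht⟩ := exists_finite_cover (X := X)
  have hgen : ∀ U : X.affineOpens, ∃ G : Finset Γ(M, U.1), Submodule.span Γ(X, U.1) (G : Set Γ(M, U.1)) = ⊤ :=
    fun U => (H10Coh.finite_sections M (isFT_of_isFP M hM) U.2).fg_top
  choose G hG using hgen
  -- a stage through which all generators lift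
  have key : ∀ p : Σ U : ↥t, ↥(G U.1), ∃ (j : J) (s : Γ(D.obj j, p.1.1.1)),
      (c.ι.app j).app p.1.1.1 s = b.app p.1.1.1 p.2.1 := fun p =>
    H15Site.QcColim.exists_rep (isColimitOfPreserves toAb hc) p.1.1.2.isCompact (b.app p.1.1.1 p.2.1)
  choose j s hs using key
  obtain ⟨i, hi⟩ := IsFiltered.sup_objs_exists (Finset.univ.image j)
  -- finitely many maps from finitely presented modules realising the lifts
  let ci : D.obj i ⟶ c.pt := c.ι.app i
  let E := kernel (biprod.desc b (-ci))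
  haveI : (M ⊞ D.obj i).IsQuasicoherent := H10Coh.isQuasicoherent_biprod _ _
  haveI : E.IsQuasicoherent := H10Coh.isQuasicoherent_kernel _
  let p₁ : E ⟶ M := kernel.ι _ ≫ biprod.fst
  let p₂ : E ⟶ D.obj i := kernel.ι _ ≫ biprod.snd
  have hp : p₁ ≫ b = p₂ ≫ ci := by
    have h := kernel.condition (biprod.desc b (-ci))
    conv_lhs at h => arg 2; rw [biprod.desc_eq]
    rw [Preadditive.comp_add, Preadditive.comp_neg, Preadditive.comp_neg,
      ← Category.assoc, ← Category.assoc, add_neg_eq_zero] at h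
    exact h
  have hlift : ∀ p : Σ U : ↥t, ↥(G U.1), ∃ (g : GI X) (φ : fpGen g ⟶ E),
      p.2.1 ∈ Set.range ((φ ≫ p₁).app p.1.1.1) := by
    intro p
    let z : Γ(D.obj i, p.1.1.1) :=
      (D.map (hi (Finset.mem_image_of_mem j (Finset.mem_univ p))).some).app p.1.1.1 (s p)
    have hz : ci.app p.1.1.1 z = b.app p.1.1.1 p.2.1 := by
      rw [← hs p, ← ConcreteCategory.comp_apply, ← Scheme.Modules.Hom.comp_app]
      exact congrArg (fun m => Scheme.Modules.Hom.app m p.1.1.1 (s p)) (c.w _)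
    let i₁ : M ⟶ M ⊞ D.obj i := biprod.inl
    let i₂ : D.obj i ⟶ M ⊞ D.obj i := biprod.inr
    have hq : (biprod.desc b (-ci)).app p.1.1.1 (i₁.app _ p.2.1 + i₂.app _ z) = 0 := by
      rw [map_add, ← ConcreteCategory.comp_apply, ← ConcreteCategory.comp_apply,
        ← Scheme.Modules.Hom.comp_app, ← Scheme.Modules.Hom.comp_app, biprod.inl_desc, biprod.inr_desc]
      show b.app _ p.2.1 + -(ci.app _ z) = 0
      rw [hz, add_neg_cancel]
    obtain ⟨e, he⟩ := exists_kernel_preimage _ _ _ hq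
    obtain ⟨g, φ, r, hr⟩ := exists_fpGen E (inferInstanceAs E.IsQuasicoherent) p.1.1 e
    refine ⟨g, φ, r, ?_⟩
    rw [Scheme.Modules.Hom.comp_app, ConcreteCategory.comp_apply, hr]
    show (kernel.ι _ ≫ (biprod.fst : M ⊞ D.obj i ⟶ M)).app _ e = _
    rw [Scheme.Modules.Hom.comp_app, ConcreteCategory.comp_apply, he, map_add,
      ← ConcreteCategory.comp_apply, ← ConcreteCategory.comp_apply,
      ← Scheme.Modules.Hom.comp_app, ← Scheme.Modules.Hom.comp_app, biprod.inl_fst, biprod.inr_fst]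
    show p.2.1 + 0 = p.2.1
    rw [add_zero]
  choose g φ hφ using hlift
  obtain ⟨q, hq⟩ := exists_lsum_hom E (Finset.univ.toList.map fun p => ⟨g p, φ p⟩)
  generalize hP : lsum ((Finset.univ.toList.map fun p => (⟨g p, φ p⟩ : Σ g : GI X, fpGen g ⟶ E)).map Sigma.fst) = P at q
  have hPfp : CohB1.IsFP P := hP ▸ isFP_lsum _
  haveI : P.IsQuasicoherent := isQCoh_of_isFP P hPfp
  let π := q ≫ p₁
  haveI : Epi π := by
    haveI := H10Coh.isQuasicoherent_cokernel π
    refine Preadditive.epi_of_cokernel_zero (hom_eq_zero_of_span (isQCoh_of_isFP M hM)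
      (inferInstanceAs (cokernel π).IsQuasicoherent) _ fun x => ?_)
    obtain ⟨U, hU, hxU⟩ := ht x
    refine ⟨U.1, G U, U.2, hxU, hG U, fun e he => ?_⟩
    obtain ⟨r, hr⟩ := hφ ⟨⟨U, hU⟩, ⟨e, he⟩⟩
    obtain ⟨w, hw⟩ := hq ⟨g ⟨⟨U, hU⟩, ⟨e, he⟩⟩, φ ⟨⟨U, hU⟩, ⟨e, he⟩⟩⟩
      (List.mem_map.2 ⟨_, Finset.mem_toList.2 (Finset.mem_univ _), rfl⟩) U.1 r
    have : π.app U.1 w = e := by
      show (q ≫ p₁).app U.1 w = e
      rw [Scheme.Modules.Hom.comp_app, ConcreteCategory.comp_apply, hw]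
      exact hr
    rw [← this]
    exact congr($(congr(Scheme.Modules.Hom.app $(cokernel.condition π) U.1)) w)
  -- the kernel of `π` is of finite type
  haveI : (kernel π).IsQuasicoherent := H10Coh.isQuasicoherent_kernel π
  have hKt : CohB1.IsFT (kernel π) := by
    refine (H10Coh.isFT_isFP_of_affineCover (kernel π) (fun U : X.affineOpens => U.1)
      (eq_top_iff.2 fun x _ => ?_) (fun U => U.2) fun U => ?_).1
    · obtain ⟨U, -, hxU⟩ := ht x
      exact Opens.mem_iSup.2 ⟨U, hxU⟩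
    haveI : Module.FinitePresentation Γ(X, U.1) Γ(P, U.1) := fpAt_of_isFP hPfp U.2
    haveI : Module.FinitePresentation Γ(X, U.1) Γ(M, U.1) := fpAt_of_isFP hM U.2
    have hfg := Module.FinitePresentation.fg_ker (appLin' π U.1) (H10Coh.surjective_app_of_epi π U.2)
    haveI : Module.Finite Γ(X, U.1) (LinearMap.ker (appLin' π U.1)) := Module.Finite.iff_fg.2 hfg
    let f : Γ(kernel π, U.1) →ₗ[Γ(X, U.1)] LinearMap.ker (appLin' π U.1) :=
      (appLin' (kernel.ι π) U.1).codRestrict _ fun z =>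
        LinearMap.mem_ker.2 (congr($(congr(Scheme.Modules.Hom.app $(kernel.condition π) U.1)) z))
    refine Module.Finite.equiv (LinearEquiv.ofBijective f ⟨fun a b h => H10Coh.injective_app_of_mono' (kernel.ι π) U.1
      (congrArg Subtype.val h), fun z => ?_⟩).symm
    obtain ⟨w, hw⟩ := exists_kernel_preimage π U.1 z.1 z.2
    exact ⟨w, Subtype.ext hw⟩
  obtain ⟨l, k, hk⟩ := exists_comp_eq_zero hc hD (inferInstanceAs (kernel π).IsQuasicoherent) hKt
    (kernel.ι π ≫ q ≫ p₂) (by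
      rw [Category.assoc, Category.assoc]
      change kernel.ι π ≫ q ≫ p₂ ≫ ci = 0
      rw [← hp, ← Category.assoc q]
      exact (Category.assoc _ _ _).symm.trans (by rw [kernel.condition, zero_comp]))
  refine ⟨l, Abelian.epiDesc π (q ≫ p₂ ≫ D.map k) (by rw [← hk]; simp only [Category.assoc]), ?_⟩
  rw [← cancel_epi π, ← Category.assoc, Abelian.comp_epiDesc]
  show (q ≫ p₂ ≫ D.map k) ≫ c.ι.app l = (q ≫ p₁) ≫ b
  simp only [Category.assoc, c.w]
  exact congrArg (q ≫ ·) hp.symm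

omit hc hD in
theorem isFinitelyPresentable_iff (F : QCohCat.QCoh X) :
    IsFinitelyPresentable.{u} F ↔ CohB1.IsFP F.obj := by
  constructor
  · intro hF
    obtain ⟨I, _, _, D, c, hc, hD, hpt⟩ := exists_isColimit_fp F.obj F.property
    obtain ⟨F, hFq⟩ := F
    obtain rfl : c.pt = F := hpt
    let D' : I ⥤ QCohCat.QCoh X := (QCohCat.isQCoh X).lift D fun i => isQCoh_of_isFP _ (hD i)
    let c' : Cocone D' :=
      { pt := ⟨c.pt, hFq⟩
        ι := { app := fun i => ObjectProperty.homMk (c.ι.app i)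
               naturality := fun i j a => ObjectProperty.hom_ext _ (c.ι.naturality a) } }
    have hc' : IsColimit c' := isColimitOfReflects (QCohCat.isQCoh X).ι
      (IsColimit.ofIsoColimit hc (Cocone.ext (Iso.refl _) (fun i => Category.comp_id _)))
    obtain ⟨i, r, hr⟩ := IsFinitelyPresentable.exists_hom_of_isColimit hc' (𝟙 c'.pt)
    have hr' : r.hom ≫ c.ι.app i = 𝟙 c.pt := congrArg InducedCategory.Hom.hom hr
    let e : D.obj i ⟶ D.obj i := 𝟙 _ - c.ι.app i ≫ r.hom
    have he : e ≫ c.ι.app i = 0 := by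
      rw [Preadditive.sub_comp, Category.assoc, hr', Category.id_comp]
      erw [Category.comp_id]
      exact sub_self _
    have := isFP_cokernel e (isQCoh_of_isFP _ (hD i)) (isFT_of_isFP _ (hD i)) (hD i)
    refine H16Derived.KFlat.Stalk.isFP_of_iso (M := cokernel e) ?_ this
    refine ⟨cokernel.desc e (c.ι.app i) he, r.hom ≫ cokernel.π e, ?_, by simp [hr']⟩
    refine coequalizer.hom_ext ?_
    show cokernel.π e ≫ cokernel.desc e (c.ι.app i) he ≫ r.hom ≫ cokernel.π e = cokernel.π e ≫ 𝟙 _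
    rw [cokernel.π_desc_assoc, Category.comp_id]
    have := cokernel.condition e
    rw [Preadditive.sub_comp, Category.id_comp, sub_eq_zero, Category.assoc] at this
    exact this.symm
  · intro hF
    rw [isFinitelyPresentable_iff_preservesFilteredColimitsOfSize]
    refine ⟨fun J _ _ => ⟨fun {K} => ⟨fun {c} hc => ?_⟩⟩⟩
    have hc' := isColimitOfPreserves (QCohCat.isQCoh X).ι hc
    refine ⟨Types.FilteredColimit.isColimitOf' _ _ (fun b => ?_) fun i a a' h => ?_⟩
    · obtain ⟨j, a, ha⟩ := exists_factor hc' (fun j => (K.obj j).property) c.pt.property hF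
        (InducedCategory.Hom.hom (b : F ⟶ c.pt))
      exact ⟨j, ObjectProperty.homMk a, (ObjectProperty.hom_ext _ ha).symm⟩
    · have h' : (a : F ⟶ K.obj i).hom ≫ (c.ι.app i).hom = (a' : F ⟶ K.obj i).hom ≫ (c.ι.app i).hom :=
        congrArg InducedCategory.Hom.hom h
      obtain ⟨j, k, hk⟩ := exists_comp_eq_zero hc' (fun j => (K.obj j).property) F.property
        (isFT_of_isFP _ hF) ((a : F ⟶ K.obj i).hom - (a' : F ⟶ K.obj i).hom) (by
          rw [Preadditive.sub_comp, sub_eq_zero]; exact h')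
      rw [Preadditive.sub_comp, sub_eq_zero] at hk
      exact ⟨j, k, ObjectProperty.hom_ext _ hk⟩

end Groth.Agent.H17.FPExt
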