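import Groth.Agent.H17.FPExt.Step

/-! Finitely presented modules are closed under finite sums and cokernels. -/

set_option autoImplicit false
set_option linter.style.haveILetI false
universe u

open CategoryTheory CategoryTheory.Limits AlgebraicGeometry Opposite TopologicalSpace

namespace Groth.Agent.H17.FPExt

open H29Fitt H8Props.FinLocFree

variable {X : Scheme.{u}}

/-- The map of sections over `U` as a linear map. -/
noncomputable def appLin' {A B : X.Modules} (φ : A ⟶ B) (U : X.Opens) : Γ(A, U) →ₗ[Γ(X, U)] Γ(B, U) where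
  toFun := φ.app U
  map_add' := map_add _
  map_smul' a m := Scheme.Modules.Hom.app_smul φ a m

theorem exists_kernel_preimage {A B : X.Modules} (φ : A ⟶ B) (U : X.Opens) (t : Γ(A, U))
    (ht : φ.app U t = 0) : ∃ s, (kernel.ι φ).app U s = t := by
  let S := ShortComplex.mk (kernel.ι φ) φ (kernel.condition φ)
  have hS : S.Exact := S.exact_of_f_is_kernel (kernelIsKernel φ)
  let Φ := Scheme.Modules.toPresheaf X ⋙ (evaluation (X.Opens)ᵒᵖ Ab).obj (op U)
  haveI : PreservesLimitsOfSize.{0, 0} (Scheme.Modules.toPresheaf X) :=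
    preservesLimitsOfSize_shrink.{0, u, 0, u} _
  haveI : PreservesFiniteLimits ((evaluation (X.Opens)ᵒᵖ Ab.{u}).obj (op U)) := ⟨fun J _ _ => evaluation_preservesLimitsOfShape _⟩
  haveI : PreservesFiniteLimits Φ := comp_preservesFiniteLimits _ _
  haveI : Φ.Additive := Functor.additive_of_preserves_binary_products _
  have h := hS.map_of_mono_of_preservesKernel Φ (inferInstanceAs (Mono (kernel.ι φ))) inferInstance
  rw [ShortComplex.ab_exact_iff] at h
  exact h t ht

theorem fpAt_of_isFP {M : X.Modules} (hM : CohB1.IsFP M) {V : X.Opens} (hV : IsAffineOpen V) :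
    FPAt M V :=
  finitePresentation_sections M hM hV

theorem isFP_of_fpAt (M : X.Modules) (hM : Coh.IsQCoh M)
    (h : ∀ V : X.Opens, IsAffineOpen V → FPAt M V) : CohB1.IsFP M :=
  H8Props.FinLocFree.isFP_of_affineCover M hM (fun V : X.affineOpens => V.1)
    (eq_top_iff.2 fun x _ => by
      obtain ⟨U, hU, hxU, -⟩ := exists_isAffineOpen_mem_and_subset (X := X) (x := x) (U := ⊤) trivial
      exact Opens.mem_iSup.2 ⟨⟨U, hU⟩, hxU⟩)
    (fun V => V.2) fun V => h V.1 V.2

theorem isFP_zero (M : X.Modules) (h : IsZero M) : CohB1.IsFP M := by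
  refine isFP_of_fpAt M (H10Coh.isQuasicoherent_zero M h) fun V _ => ?_
  haveI : Subsingleton Γ(M, V) := subsingleton_of_forall_eq 0 fun s =>
    congr($(congr(Scheme.Modules.Hom.app $((IsZero.iff_id_eq_zero M).1 h) V)) s)
  exact inferInstanceAs (Module.FinitePresentation Γ(X, V) Γ(M, V))

theorem isFP_biprod {P Q : X.Modules} (hP : CohB1.IsFP P) (hQ : CohB1.IsFP Q) : CohB1.IsFP (P ⊞ Q) := by
  haveI : P.IsQuasicoherent := isQCoh_of_isFP P hP
  haveI : Q.IsQuasicoherent := isQCoh_of_isFP Q hQ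
  refine isFP_of_fpAt _ (H10Coh.isQuasicoherent_biprod P Q) fun V hV => ?_
  haveI : Module.FinitePresentation Γ(X, V) Γ(P, V) := fpAt_of_isFP hP hV
  haveI : Module.FinitePresentation Γ(X, V) Γ(Q, V) := fpAt_of_isFP hQ hV
  let p₁ : P ⊞ Q ⟶ P := biprod.fst
  let p₂ : P ⊞ Q ⟶ Q := biprod.snd
  let i₁ : P ⟶ P ⊞ Q := biprod.inl
  let i₂ : Q ⟶ P ⊞ Q := biprod.inr
  let e : Γ(P ⊞ Q, V) ≃ₗ[Γ(X, V)] (Γ(P, V) × Γ(Q, V)) :=
    LinearEquiv.ofBijective ((appLin' p₁ V).prod (appLin' p₂ V))
      ⟨fun a b hab => by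
        have h : ((p₁ ≫ i₁ + p₂ ≫ i₂)).app V a =
            ((p₁ ≫ i₁ + p₂ ≫ i₂)).app V b := by
          show i₁.app V (p₁.app V a) + i₂.app V (p₂.app V a) =
            i₁.app V (p₁.app V b) + i₂.app V (p₂.app V b)
          rw [show p₁.app V a = p₁.app V b from congrArg Prod.fst hab,
            show p₂.app V a = p₂.app V b from congrArg Prod.snd hab]
        rwa [show p₁ ≫ i₁ + p₂ ≫ i₂ = 𝟙 (P ⊞ Q) from biprod.total] at h,
      fun p => ⟨i₁.app V p.1 + i₂.app V p.2, Prod.ext
        (by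
          show p₁.app V _ = _
          rw [map_add, ← ConcreteCategory.comp_apply, ← ConcreteCategory.comp_apply,
            ← Scheme.Modules.Hom.comp_app, ← Scheme.Modules.Hom.comp_app]
          simp [p₁, p₂, i₁, i₂])
        (by
          show p₂.app V _ = _
          rw [map_add, ← ConcreteCategory.comp_apply, ← ConcreteCategory.comp_apply,
            ← Scheme.Modules.Hom.comp_app, ← Scheme.Modules.Hom.comp_app]
          simp [p₁, p₂, i₁, i₂])⟩⟩
  exact Module.FinitePresentation.of_equiv e.symm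

theorem isFP_cokernel {P Q : X.Modules} (φ : P ⟶ Q) (hPq : Coh.IsQCoh P) (hPt : CohB1.IsFT P)
    (hQ : CohB1.IsFP Q) : CohB1.IsFP (cokernel φ) := by
  haveI : P.IsQuasicoherent := hPq
  haveI : Q.IsQuasicoherent := isQCoh_of_isFP Q hQ
  haveI := H10Coh.isQuasicoherent_cokernel φ
  refine isFP_of_fpAt _ (inferInstanceAs (cokernel φ).IsQuasicoherent) fun V hV => ?_
  haveI : Module.FinitePresentation Γ(X, V) Γ(Q, V) := fpAt_of_isFP hQ hV
  haveI : Module.Finite Γ(X, V) Γ(P, V) := H10Coh.finite_sections P hPt hV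
  refine Module.finitePresentation_of_surjective (appLin' (cokernel.π φ) V)
    (H10Coh.surjective_app_of_epi (cokernel.π φ) hV) ?_
  rw [show LinearMap.ker (appLin' (cokernel.π φ) V) = LinearMap.range (appLin' φ V) from ?_,
    LinearMap.range_eq_map]
  · exact Module.Finite.fg_top.map _
  refine le_antisymm (fun t ht => ?_) ?_
  · haveI : (kernel (cokernel.π φ)).IsQuasicoherent := H10Coh.isQuasicoherent_kernel _
    haveI : (Abelian.image φ).IsQuasicoherent := inferInstanceAs (kernel (cokernel.π φ)).IsQuasicoherent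
    obtain ⟨s, hs⟩ := exists_kernel_preimage (cokernel.π φ) V t ht
    obtain ⟨a, ha⟩ := H10Coh.surjective_app_of_epi (Abelian.factorThruImage φ) hV s
    refine ⟨a, ?_⟩
    show φ.app V a = t
    rw [← hs]
    refine Eq.trans ?_ (congrArg ((kernel.ι (cokernel.π φ)).app V) ha)
    rw [← ConcreteCategory.comp_apply, ← Scheme.Modules.Hom.comp_app, Abelian.image.fac]
  · rintro _ ⟨a, rfl⟩
    exact congr($(congr(Scheme.Modules.Hom.app $(cokernel.condition φ) V)) a)

end Groth.Agent.H17.FPExt
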