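import Groth.Agent.H17.PushColim
import Groth.Agent.H10Coh.QcqsPush
import Groth.Agent.H10Coh.QCohOps
import Groth.Agent.H10Coh.Serre
import Groth.Agent.H22Alg.CohSupport
import Groth.Agent.H29Blow.QCohExt

/-!
# Modifying a quasi-coherent module on an open

`exists_modify`: given `P` on `X`, a quasi-compact open immersion `j : Z ⟶ X` and `β : N ⟶ P|Z`,
there is `π : P' ⟶ P` whose restriction to `Z` is `β` and which is an isomorphism near every point
around which `β` is one.
-/

set_option autoImplicit false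
set_option linter.style.haveILetI false
universe u

open CategoryTheory CategoryTheory.Limits AlgebraicGeometry Opposite TopologicalSpace

namespace Groth.Agent.H17.FPExt

open PushColim H16Derived.KFlat.Stalk

variable {X Z : Scheme.{u}}

/-- Being an isomorphism on the stalk at `x`. -/
def IsoAt {A B : X.Modules} (φ : A ⟶ B) (x : X) : Prop := IsIso ((stalkAb x).map φ)

theorem isoAt_of_isIso {A B : X.Modules} (φ : A ⟶ B) [IsIso φ] (x : X) : IsoAt φ x :=
  inferInstanceAs (IsIso ((stalkAb x).map φ))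

theorem IsoAt.comp {A B C : X.Modules} {φ : A ⟶ B} {ψ : B ⟶ C} {x : X} (h : IsoAt φ x)
    (h' : IsoAt ψ x) : IsoAt (φ ≫ ψ) x := by
  unfold IsoAt at *; rw [Functor.map_comp]; infer_instance

theorem bijective_app_of_isoAt {A B : X.Modules} (φ : A ⟶ B) (W : X.Opens)
    (h : ∀ x ∈ W, IsoAt φ x) : Function.Bijective (φ.app W) :=
  TopCat.Presheaf.app_bijective_of_stalkFunctor_map_bijective (toAb.map φ) W fun x hx => by
    haveI : IsIso ((TopCat.Presheaf.stalkFunctor AddCommGrpCat.{u} x).map (toAb.map φ).hom) := h x hx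
    exact ConcreteCategory.bijective_of_isIso
      ((TopCat.Presheaf.stalkFunctor AddCommGrpCat.{u} x).map (toAb.map φ).hom)

theorem isIso_restrict_of_isoAt {A B : X.Modules} (φ : A ⟶ B) (j : Z ⟶ X) [IsOpenImmersion j]
    (h : ∀ z : Z, IsoAt φ (j z)) : IsIso ((Scheme.Modules.restrictFunctor j).map φ) := by
  refine Scheme.Modules.Hom.isIso_iff_isIso_app.2 fun U => ?_
  refine (ConcreteCategory.isIso_iff_bijective _).2 ?_
  refine bijective_app_of_isoAt φ (j ''ᵁ U) ?_
  rintro _ ⟨z, _, rfl⟩
  exact h z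

theorem isoAt_of_isIso_restrict {A B : X.Modules} (φ : A ⟶ B) (j : Z ⟶ X) [IsOpenImmersion j]
    (z : Z) [IsIso ((Scheme.Modules.restrictFunctor j).map φ)] : IsoAt φ (j z) := by
  have h : IsIso ((Scheme.Modules.restrictFunctor j ⋙ Scheme.Modules.toPresheaf _ ⋙
      TopCat.Presheaf.stalkFunctor _ z).map φ) :=
    inferInstanceAs (IsIso ((Scheme.Modules.toPresheaf _ ⋙ TopCat.Presheaf.stalkFunctor _ z).map
      ((Scheme.Modules.restrictFunctor j).map φ)))
  exact (NatIso.isIso_map_iff (Scheme.Modules.restrictStalkNatIso j z) φ).1 h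

theorem isoAt_of_bijective_app {A B : X.Modules} (φ : A ⟶ B) {W : X.Opens} {x : X} (hx : x ∈ W)
    (h : ∀ W' ≤ W, Function.Bijective (φ.app W')) : IsoAt φ x := by
  haveI : IsIso ((Scheme.Modules.restrictFunctor W.ι).map φ) :=
    Scheme.Modules.Hom.isIso_iff_isIso_app.2 fun U =>
      (ConcreteCategory.isIso_iff_bijective _).2 (h (W.ι ''ᵁ U) (W.ι_image_le U))
  exact isoAt_of_isIso_restrict φ W.ι ⟨x, hx⟩

theorem isoAt_of_torsion {A B : X.Modules} (hA : Coh.IsQCoh A) (hB : Coh.IsQCoh B) (φ : A ⟶ B)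
    {V : X.Opens} (hV : IsAffineOpen V) (f : Γ(X, V))
    (hker : ∀ a : Γ(A, V), φ.app V a = 0 → ∃ k : ℕ, f ^ k • a = 0)
    (hcok : ∀ b : Γ(B, V), ∃ (k : ℕ) (a : Γ(A, V)), φ.app V a = f ^ k • b)
    {x : X} (hx : x ∈ X.basicOpen f) : IsoAt φ x := by
  haveI : A.IsQuasicoherent := hA
  haveI : B.IsQuasicoherent := hB
  have key : ∀ C : X.Modules, C.IsQuasicoherent → (∀ c : Γ(C, V), ∃ k : ℕ, f ^ k • c = 0) →
      Subsingleton ((stalkAb x).obj C) := fun C hC h => by
    haveI : Subsingleton Γ(C, X.basicOpen f) := subsingleton_of_forall_eq 0 fun c => by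
      obtain ⟨n, s, hs⟩ := H29Blow.exists_pow_smul_eq_res C hC hV f c
      obtain ⟨k, hk⟩ := h s
      have h2 := congrArg (C.presheaf.map (homOfLE (X.basicOpen_le f)).op) hk
      rw [map_zero, Scheme.Modules.map_smul, hs, smul_smul, ← map_mul, ← pow_add, map_pow] at h2
      have hu : IsUnit ((X.presheaf.map (homOfLE (X.basicOpen_le f)).op f : Γ(X, X.basicOpen f)) ^ (k + n)) :=
        (RingedSpace.isUnit_res_basicOpen _ f).pow _
      exact hu.smul_left_cancel.1 (h2.trans (smul_zero _).symm)
    show Subsingleton (C.presheaf.stalk x)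
    rw [← not_nontrivial_iff_subsingleton,
      H22Alg.CohSupport.nontrivial_stalk_iff _ hC (hV.basicOpen f) ⟨x, hx⟩, Module.support_eq_empty]
    exact fun h => h
  haveI : (kernel φ).IsQuasicoherent := H10Coh.isQuasicoherent_kernel φ
  haveI : (cokernel φ).IsQuasicoherent := H10Coh.isQuasicoherent_cokernel φ
  have hK := key (kernel φ) inferInstance fun c => by
    obtain ⟨k, hk⟩ := hker ((kernel.ι φ).app V c)
      (congr($(congr(Scheme.Modules.Hom.app $(kernel.condition φ) V)) c))
    exact ⟨k, H10Coh.injective_app_of_mono' (kernel.ι φ) V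
      ((Scheme.Modules.Hom.app_smul _ _ _).trans (hk.trans (map_zero _).symm))⟩
  have hC := key (cokernel φ) inferInstance fun c => by
    obtain ⟨b, rfl⟩ := H10Coh.surjective_app_of_epi (cokernel.π φ) hV c
    obtain ⟨k, a, ha⟩ := hcok b
    refine ⟨k, ?_⟩
    rw [← Scheme.Modules.Hom.app_smul, ← ha]
    exact congr($(congr(Scheme.Modules.Hom.app $(cokernel.condition φ) V)) a)
  haveI : PreservesFiniteLimits (stalkAb (X := X) x) := preservesFiniteLimits_of_natIso (stalkAbIso x)
  haveI : PreservesFiniteColimits (stalkAb (X := X) x) :=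
    PreservesColimitsOfSize.preservesFiniteColimits.{u, u} _
  haveI : (stalkAb (X := X) x).Additive := Functor.additive_of_preserves_binary_products _
  haveI : Mono ((stalkAb x).map φ) := Preadditive.mono_of_isZero_kernel _
    (IsZero.of_iso (AddCommGrpCat.isZero_of_subsingleton _) (PreservesKernel.iso (stalkAb x) φ).symm)
  haveI : Epi ((stalkAb x).map φ) := Preadditive.epi_of_isZero_cokernel _
    (IsZero.of_iso (AddCommGrpCat.isZero_of_subsingleton _) (PreservesCokernel.iso (stalkAb x) φ).symm)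
  exact isIso_of_mono_of_epi _

theorem exists_modify (P : X.Modules) (hP : Coh.IsQCoh P) (j : Z ⟶ X) [IsOpenImmersion j]
    [QuasiCompact j] (N : Z.Modules) (hN : Coh.IsQCoh N)
    (β : N ⟶ (Scheme.Modules.restrictFunctor j).obj P) :
    ∃ (P' : X.Modules) (π : P' ⟶ P) (e : (Scheme.Modules.restrictFunctor j).obj P' ≅ N),
      Coh.IsQCoh P' ∧ e.hom ≫ β = (Scheme.Modules.restrictFunctor j).map π ∧
      ∀ (x : X) (W : X.Opens), x ∈ W → (∀ z : Z, j z ∈ W → IsoAt β z) → IsoAt π x := by
  haveI : P.IsQuasicoherent := hP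
  haveI : N.IsQuasicoherent := hN
  let adj := Scheme.Modules.restrictAdjunction j
  let R := Scheme.Modules.restrictFunctor j
  let η := adj.unit.app P
  let f := (Scheme.Modules.pushforward j).map β
  haveI : ((𝟭 X.Modules).obj P).IsQuasicoherent := hP
  haveI : (R.obj P).IsQuasicoherent := inferInstanceAs (((Scheme.Modules.restrictFunctor j).obj P).IsQuasicoherent)
  haveI := H10Coh.isQuasicoherent_pushforward j N
  haveI : ((R ⋙ Scheme.Modules.pushforward j).obj P).IsQuasicoherent :=
    @H10Coh.isQuasicoherent_pushforward _ _ j _ _ ((Scheme.Modules.restrictFunctor j).obj P) inferInstance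
  haveI : ((Scheme.Modules.pushforward j).obj ((Scheme.Modules.restrictFunctor j).obj P)).IsQuasicoherent :=
    @H10Coh.isQuasicoherent_pushforward _ _ j _ _ ((Scheme.Modules.restrictFunctor j).obj P) inferInstance
  haveI : (((Scheme.Modules.pushforward j).obj N) ⊞ (𝟭 X.Modules).obj P).IsQuasicoherent :=
    H10Coh.isQuasicoherent_biprod _ _
  haveI := H10Coh.isQuasicoherent_kernel (biprod.desc f (-η))
  let P' := kernel (biprod.desc f (-η))
  let p₁ : P' ⟶ (Scheme.Modules.pushforward j).obj N := kernel.ι _ ≫ biprod.fst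
  let p₂ : P' ⟶ P := kernel.ι _ ≫ biprod.snd
  have hsq : IsPullback p₁ p₂ f η := by
    refine IsPullback.of_isLimit (PullbackCone.IsLimit.mk (f := f) (g := η) (fst := p₁) (snd := p₂) ?_
      (fun s => kernel.lift _ (biprod.lift s.fst s.snd) (by simp [s.condition]))
      (fun s => by simp [p₁]) (fun s => by simp [p₂]) (fun s m h1 h2 => ?_))
    · have h := kernel.condition (biprod.desc f (-η))
      conv_lhs at h => arg 2; rw [biprod.desc_eq]
      rw [Preadditive.comp_add, Preadditive.comp_neg, Preadditive.comp_neg,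
        ← Category.assoc, ← Category.assoc, add_neg_eq_zero] at h
      exact h
    · refine (cancel_mono (kernel.ι _)).1 (biprod.hom_ext _ _ ?_ ?_) <;>
        simp only [Category.assoc, kernel.lift_ι, biprod.lift_fst, biprod.lift_snd] <;> assumption
  haveI : PreservesLimitsOfShape WalkingCospan R := inferInstance
  have hRη : R.map η ≫ adj.counit.app (R.obj P) = 𝟙 _ := adj.left_triangle_components P
  haveI : IsIso (R.map η) := by
    haveI : IsIso (R.map η ≫ adj.counit.app (R.obj P)) := by rw [hRη]; infer_instance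
    exact IsIso.of_isIso_comp_right _ (adj.counit.app (R.obj P))
  haveI : IsIso (R.map p₁) := (hsq.map R).isIso_fst_of_isIso
  refine ⟨P', p₂, asIso (R.map p₁) ≪≫ asIso (adj.counit.app N), inferInstanceAs (P'.IsQuasicoherent), ?_, ?_⟩
  · have h1 : R.map p₁ ≫ R.map f = R.map p₂ ≫ R.map η := by
      rw [← R.map_comp, ← R.map_comp, hsq.w]
    have h2 : R.map f ≫ adj.counit.app (R.obj P) = adj.counit.app N ≫ β := adj.counit.naturality β
    calc (R.map p₁ ≫ adj.counit.app N) ≫ β = (R.map p₁ ≫ R.map f) ≫ adj.counit.app (R.obj P) := by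
          rw [Category.assoc, Category.assoc, h2]
      _ = R.map p₂ := by rw [h1, Category.assoc, hRη]; exact Category.comp_id _
  · intro x W hx hW
    haveI : IsIso ((stalkAb x).map f) := isoAt_of_bijective_app f hx fun W' hW' =>
      bijective_app_of_isoAt β (j ⁻¹ᵁ W') fun z hz => hW z (hW' hz)
    haveI : PreservesFiniteLimits (stalkAb (X := X) x) := preservesFiniteLimits_of_natIso (stalkAbIso x)
    exact (hsq.map (stalkAb x)).isIso_snd_of_isIso

end Groth.Agent.H17.FPExt
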